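import Groth.Agent.Vancyc.H241.OfConnFin
import Groth.Agent.S0185
import Groth.Agent.Etrest.ConstBasic

/-!
# Reduction of `χ_ét(Y) = Σ (-1)^i χ(Y, Ω^i)` to connected `Y` over an algebraically closed field
-/

set_option autoImplicit false

universe u

open CategoryTheory CategoryTheory.Limits AlgebraicGeometry Opposite TopologicalSpace

namespace Groth.Agent.Vancyc.H241.OfConn

open Groth.Agent.Vancyc.H326 Groth.Agent.Vancyc.H241.CohOm

/-- Finiteness of the étale cohomology of a proper scheme over a separably closed field. -/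
theorem finite_H {k : Type u} [Field k] [IsSepClosed k] {N : ℕ} (hN : 0 < N) (X : Scheme.{u})
    (f : X ⟶ Spec (CommRingCat.of k)) [IsProper f] (i : ℕ) :
    Finite (EtCoh.H X (EtCoh.const X (ZMod N)) i) := by
  have : NeZero N := ⟨hN.ne'⟩
  exact Groth.Agent.S0185.result X f N hN (EtCoh.const X (ZMod N))
    (Groth.Agent.Etrest.ConstBasic.isConstructible_const X (ZMod N))
    (Groth.Agent.Etrest.ConstBasic.killedBy_const X (ZMod N) N (fun a => by simp)) i

/-- Reduction to integral `Y` of dimension `m`. -/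
theorem of_connected (k : Type u) [Field k] [IsSepClosed k] (ℓ : ℕ) (hℓ : ℓ.Prime) (m : ℕ)
    (h : ∀ (Y : Scheme.{u}) (pY : Y ⟶ Spec (CommRingCat.of k)) [IsProper pY]
      [SmoothOfRelativeDimension m pY] [IsIntegral Y], topologicalKrullDim Y = m →
      VanCyc.euler ℓ Y (2 * m) = cOm k m pY)
    (Y : Scheme.{u}) (pY : Y ⟶ Spec (CommRingCat.of k)) [IsProper pY]
    [SmoothOfRelativeDimension m pY] : VanCyc.euler ℓ Y (2 * m) = cOm k m pY :=
  OfConnFin.of_connected k ℓ hℓ m (fun Y pY _ n => finite_H hℓ.pos Y pY n) h Y pY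

end Groth.Agent.Vancyc.H241.OfConn
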