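import Mathlib.AlgebraicGeometry.Morphisms.ClosedImmersion
import Mathlib.Topology.NoetherianSpace
import Mathlib.Topology.Connected.Clopen

/-!
# Induction on the clopen subschemes of a scheme with Noetherian underlying space

* `isClosedImmersion_ι`: if `U ⊔ V = ⊤` and `U ⊓ V = ⊥`, then `U.ι` is a closed immersion;
* `induction`: a property of schemes over `B` which holds for empty and for connected schemes and
  passes from `U`, `V` to `Y` when `Y = U ⊔ V`, `U ⊓ V = ⊥`, holds for all schemes with Noetherian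
  underlying space.
-/

set_option autoImplicit false

universe u

open CategoryTheory AlgebraicGeometry TopologicalSpace

namespace Groth.Agent.Vancyc.H241.Clopen

variable {Y : Scheme.{u}} (U V : Y.Opens)

theorem compl_eq (hUV : U ⊔ V = ⊤) (hd : U ⊓ V = ⊥) : (U : Set Y) = (V : Set Y)ᶜ := by
  apply Set.Subset.antisymm
  · intro x hx hx'
    have h3 : x ∈ U ⊓ V := ⟨hx, hx'⟩
    rw [hd] at h3
    exact h3
  · intro x hx
    have h3 : x ∈ U ⊔ V := by rw [hUV]; trivial
    exact h3.resolve_right hx

theorem isClosedImmersion_ι (hUV : U ⊔ V = ⊤) (hd : U ⊓ V = ⊥) : IsClosedImmersion U.ι := by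
  apply IsClosedImmersion.of_isPreimmersion U.ι
  rw [U.range_ι, compl_eq U V hUV hd]
  exact V.isOpen.isClosed_compl

theorem isClosed_left (hUV : U ⊔ V = ⊤) (hd : U ⊓ V = ⊥) : IsClosed (U : Set Y) := by
  rw [compl_eq U V hUV hd]
  exact V.isOpen.isClosed_compl

variable {B : Scheme.{u}}

theorem induction (P : ∀ (Y : Scheme.{u}), (Y ⟶ B) → Prop)
    (h0 : ∀ (Y : Scheme.{u}) (p : Y ⟶ B), IsEmpty Y → P Y p)
    (h1 : ∀ (Y : Scheme.{u}) (p : Y ⟶ B), ConnectedSpace Y → P Y p)
    (h2 : ∀ (Y : Scheme.{u}) (p : Y ⟶ B) (U V : Y.Opens), U ⊔ V = ⊤ → U ⊓ V = ⊥ →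
      P U.toScheme (U.ι ≫ p) → P V.toScheme (V.ι ≫ p) → P Y p)
    (Y₀ : Scheme.{u}) (p₀ : Y₀ ⟶ B) [NoetherianSpace Y₀] : P Y₀ p₀ := by
  have key : ∀ Z : Closeds Y₀, ∀ (Y : Scheme.{u}) (i : Y ⟶ Y₀), IsOpenImmersion i →
      Set.range i = Z → P Y (i ≫ p₀) := by
    intro Z
    induction Z using WellFoundedLT.induction with
    | ind Z ih =>
      intro Y i hi hr
      by_cases hconn : ConnectedSpace Y
      · exact h1 Y _ hconn
      by_cases hemp : IsEmpty Y
      · exact h0 Y _ hemp
      rw [not_isEmpty_iff] at hemp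
      have hnp : ¬ PreconnectedSpace Y := fun h => hconn { toNonempty := hemp }
      rw [preconnectedSpace_iff_clopen] at hnp
      push Not at hnp
      obtain ⟨s, hs, hs1, hs2⟩ := hnp
      have hce : Topology.IsClosedEmbedding i :=
        { toIsEmbedding := i.isOpenEmbedding.toIsEmbedding
          isClosed_range := by rw [hr]; exact Z.isClosed }
      have aux : ∀ T : Y.Opens, IsClosed (T : Set Y) → (T : Set Y) ≠ Set.univ →
          P T.toScheme (T.ι ≫ i ≫ p₀) := by
        intro T ht ht'
        let Z' : Closeds Y₀ := ⟨i '' T, hce.isClosedMap _ ht⟩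
        have hle : (Z' : Set Y₀) ⊆ Z := by
          rw [← hr]
          rintro _ ⟨y, -, rfl⟩
          exact ⟨y, rfl⟩
        have hlt : Z' < Z := by
          refine lt_of_le_of_ne hle ?_
          intro h
          apply ht'
          rw [Set.eq_univ_iff_forall]
          intro y
          have h3 : i y ∈ (Z : Set Y₀) := by rw [← hr]; exact ⟨y, rfl⟩
          rw [← h] at h3
          obtain ⟨y', hy', he⟩ := h3
          rw [← hce.injective he]
          exact hy'
        have h4 := ih Z' hlt T.toScheme (T.ι ≫ i) inferInstance (by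
          rw [Scheme.Hom.comp_base, TopCat.coe_comp, Set.range_comp, Scheme.Opens.range_ι]
          rfl)
        rwa [Category.assoc] at h4
      refine h2 Y (i ≫ p₀) ⟨s, hs.2⟩ ⟨sᶜ, hs.compl.2⟩ ?_ ?_ (aux _ hs.1 ?_) (aux _ hs.compl.1 ?_)
      · ext x
        simp
      · ext x
        simp
      · exact hs2
      · intro h
        have h' : sᶜ = Set.univ := h
        rw [Set.compl_univ_iff] at h'
        rw [h'] at hs1
        simp at hs1
  have h := key ⊤ Y₀ (𝟙 Y₀) inferInstance (by simp)
  rwa [Category.id_comp] at h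

end Groth.Agent.Vancyc.H241.Clopen
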