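import Groth.Agent.Vancyc.H241.CohSplit
import Groth.Agent.Vancyc.H326.ChiLam
import Groth.Agent.Vancyc.H878.OmegaRank
import Groth.Agent.Dual.H375.ExtRestr
import Groth.Agent.Smoothlim.ConormalRes

/-!
# `Σ (-1)^i χ(Y, Λ^i Ω)` is additive for disjoint unions

* `c_add`: `c k r G = c k r GU + c k r GV` when `GU ≅ G|_U`, `GV ≅ G|_V`, `Y = U ⊔ V`, `U ⊓ V = ⊥`;
* `cOm pY m` = `c k m (Omega.sheaf pY)` with the `Over` structure given by `pY`;
* `cOm_add`, `cOm_of_isEmpty`.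
-/

set_option autoImplicit false
set_option linter.style.haveILetI false
set_option linter.unusedSectionVars false

universe u

open CategoryTheory CategoryTheory.Limits AlgebraicGeometry Opposite TopologicalSpace
open AlgebraicGeometry.Scheme.Modules

namespace Groth.Agent.Vancyc.H241.CohOm

open Groth.Agent.Vancyc.H326

variable {Y : Scheme.{u}} (U V : Y.Opens)

theorem c_add (k : Type u) [Field k] [Y.Over (Spec (CommRingCat.of k))]
    [IsProper (Y ↘ Spec (CommRingCat.of k))]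
    [U.toScheme.Over (Spec (CommRingCat.of k))] [V.toScheme.Over (Spec (CommRingCat.of k))]
    (hU : U.ι ≫ (Y ↘ Spec (CommRingCat.of k)) = U.toScheme ↘ Spec (CommRingCat.of k))
    (hV : V.ι ≫ (Y ↘ Spec (CommRingCat.of k)) = V.toScheme ↘ Spec (CommRingCat.of k))
    (hUV : U ⊔ V = ⊤) (hd : U ⊓ V = ⊥) {G : Y.Modules} (hG : FlatMod.IsFinLocFree G)
    {GU : U.toScheme.Modules} (hGU : FlatMod.IsFinLocFree GU) (eU : GU ≅ G.restrict U.ι)
    {GV : V.toScheme.Modules} (hGV : FlatMod.IsFinLocFree GV) (eV : GV ≅ G.restrict V.ι) (r : ℕ) :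
    ChiLam.c k r G = ChiLam.c k r GU + ChiLam.c k r GV := by
  rw [ChiLam.c, ChiLam.c, ChiLam.c, ← Finset.sum_add_distrib]
  refine Finset.sum_congr rfl fun i _ => ?_
  have hL := ChiLam.isExtPow_extPow hG i
  obtain ⟨e1⟩ := ChiLam.nonempty_iso_extPow hGU eU (Dual.H375.ExtRestr.isExtPow_restrict U hL)
  obtain ⟨e2⟩ := ChiLam.nonempty_iso_extPow hGV eV (Dual.H375.ExtRestr.isExtPow_restrict V hL)
  rw [CohSplit.euler_add U V k hU hV hUV hd
    (PerfA.CohSerre.isCoh_of_isFinLocFree (ChiLam.isFinLocFree_extPow hG i)),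
    ChiLam.euler_iso k e1, ChiLam.euler_iso k e2]
  ring

/-- `c k m (Omega.sheaf pY)` for the structure morphism `pY`. -/
noncomputable def cOm (k : Type u) [Field k] (m : ℕ) {Y : Scheme.{u}}
    (pY : Y ⟶ Spec (CommRingCat.of k)) : ℤ :=
  letI : Y.Over (Spec (CommRingCat.of k)) := ⟨pY⟩
  ChiLam.c k m (Omega.sheaf pY)

theorem cOm_add (k : Type u) [Field k] (m : ℕ) (pY : Y ⟶ Spec (CommRingCat.of k)) [IsProper pY]
    [Smooth pY] (hUV : U ⊔ V = ⊤) (hd : U ⊓ V = ⊥) :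
    cOm k m pY = cOm k m (U.ι ≫ pY) + cOm k m (V.ι ≫ pY) := by
  have c1 := CohSplit.isClosedImmersion_ι U V hUV hd
  have c2 := CohSplit.isClosedImmersion_ι V U (by rw [sup_comm]; exact hUV) (by rw [inf_comm]; exact hd)
  letI : Y.Over (Spec (CommRingCat.of k)) := ⟨pY⟩
  letI : U.toScheme.Over (Spec (CommRingCat.of k)) := ⟨U.ι ≫ pY⟩
  letI : V.toScheme.Over (Spec (CommRingCat.of k)) := ⟨V.ι ≫ pY⟩
  have : IsProper (Y ↘ Spec (CommRingCat.of k)) := ‹IsProper pY›
  have eU : Omega.sheaf (U.ι ≫ pY) ≅ (Omega.sheaf pY).restrict U.ι :=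
    ((Scheme.Modules.restrictFunctorIsoPullback U.ι).app _ ≪≫
      Smoothlim.ConormalRes.omegaRestrictIso (j := U.ι) (f := pY) (f' := U.ι ≫ pY)
        (l := 𝟙 _) (Category.comp_id _).symm).symm
  have eV : Omega.sheaf (V.ι ≫ pY) ≅ (Omega.sheaf pY).restrict V.ι :=
    ((Scheme.Modules.restrictFunctorIsoPullback V.ι).app _ ≪≫
      Smoothlim.ConormalRes.omegaRestrictIso (j := V.ι) (f := pY) (f' := V.ι ≫ pY)
        (l := 𝟙 _) (Category.comp_id _).symm).symm
  exact c_add U V k rfl rfl hUV hd (H878.OmegaRank.isFinLocFree_omega pY)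
    (H878.OmegaRank.isFinLocFree_omega (U.ι ≫ pY)) eU
    (H878.OmegaRank.isFinLocFree_omega (V.ι ≫ pY)) eV m

theorem euler_eq_zero_of_isZero (k : Type u) [Field k] {X : Scheme.{u}}
    [X.Over (Spec (CommRingCat.of k))] {F : X.Modules} (hF : IsZero F) : Curv2.euler k X F = 0 := by
  have h : ∀ n, 0 ≤ n → Subsingleton (Coh.HH X F n) := fun n _ => by
    have hz : ∀ x : Coh.HH X F n, x = 0 := fun x => by
      have h1 : VarietyA.EulerLES.mapA k (𝟙 F) n x = x := by rw [VarietyA.EulerLES.mapA_id]; rfl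
      rw [hF.eq_of_src (𝟙 F) 0] at h1
      rw [← h1]
      exact LinearMap.congr_fun (VarietyA.EulerLES.mapΓ_zero F F n) x
    exact ⟨fun a b => by rw [hz a, hz b]⟩
  rw [VarietyA.EulerAdd.euler_eq_sum k F 0 h, Finset.sum_range_zero]

theorem cOm_of_isEmpty (k : Type u) [Field k] (m : ℕ) (pY : Y ⟶ Spec (CommRingCat.of k))
    [IsEmpty Y] : cOm k m pY = 0 := by
  letI : Y.Over (Spec (CommRingCat.of k)) := ⟨pY⟩
  have hz : ∀ M : Y.Modules, Curv2.euler k Y M = 0 := by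
    intro M
    apply euler_eq_zero_of_isZero
    apply CohSplit.isZero_of_sections
    intro W
    apply CohSplit.subsingleton_bot
    ext x
    exact isEmptyElim x
  change ChiLam.c k m (Omega.sheaf pY) = 0
  rw [ChiLam.c]
  exact Finset.sum_eq_zero fun i _ => by rw [hz, mul_zero]

end Groth.Agent.Vancyc.H241.CohOm
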