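import Groth.Agent.CurvesC.DegIso
import Groth.Agent.PerfA.CohSerre
import Groth.Agent.PerfA.Restrict
import Groth.Agent.S1524

/-!
# Euler characteristics of coherent modules on a disjoint union of two open subschemes

For opens `U`, `V` of `Y` with `U ⊔ V = ⊤`, `U ⊓ V = ⊥` and `M : Y.Modules`:

* `isClosedImmersion_ι`: `U.ι` is a closed immersion;
* `isIso_lift`: `M ⟶ (U.ι)_* M|_U ⊞ (V.ι)_* M|_V` is an isomorphism;
* `euler_add`: `χ(Y, M) = χ(U, M|_U) + χ(V, M|_V)` for `Y` proper over a field and `M` coherent.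
-/

set_option autoImplicit false
set_option linter.style.haveILetI false
set_option linter.unusedSectionVars false

universe u

open CategoryTheory CategoryTheory.Limits AlgebraicGeometry Opposite TopologicalSpace
open AlgebraicGeometry.Scheme.Modules

namespace Groth.Agent.Vancyc.H241.CohSplit

section Abs

variable {C : Type*} [Category* C] [Preadditive C] [HasBinaryBiproducts C]

theorem isIso_lift_left {A B D : C} (f : A ⟶ B) (g : A ⟶ D) [IsIso f] (hD : IsZero D) :
    IsIso (biprod.lift f g) := by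
  refine ⟨biprod.fst ≫ inv f, by simp, ?_⟩
  apply biprod.hom_ext
  · simp
  · exact hD.eq_of_tgt _ _

theorem isIso_lift_right {A B D : C} (f : A ⟶ B) (g : A ⟶ D) [IsIso g] (hB : IsZero B) :
    IsIso (biprod.lift f g) := by
  refine ⟨biprod.snd ≫ inv g, by simp, ?_⟩
  apply biprod.hom_ext
  · exact hB.eq_of_tgt _ _
  · simp

end Abs

theorem isZero_of_sections {X : Scheme.{u}} (M : X.Modules) (h : ∀ W : X.Opens, Subsingleton Γ(M, W)) :
    IsZero M := by
  rw [IsZero.iff_id_eq_zero]
  apply hom_ext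
  intro W
  ext x
  have := h W
  exact Subsingleton.elim _ _

theorem subsingleton_bot {X : Scheme.{u}} (M : X.Modules) (W : X.Opens) (hW : W = ⊥) :
    Subsingleton Γ(M, W) := by
  refine ⟨fun s t => ?_⟩
  apply TopCat.Sheaf.eq_of_locally_eq' (F := ⟨M.presheaf, M.isSheaf⟩)
    (fun x : PEmpty.{1} => x.elim) W (fun x => x.elim)
  · rw [hW]; exact bot_le
  · exact fun x => x.elim

variable {Y : Scheme.{u}} (U V : Y.Opens)

/-- `M ⟶ (U.ι)_* M|_U`. -/
noncomputable abbrev un (M : Y.Modules) : M ⟶ (pushforward U.ι).obj (M.restrict U.ι) :=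
  (restrictAdjunction U.ι).unit.app M

instance isIso_restrict_un (M : Y.Modules) : IsIso ((restrictFunctor U.ι).map (un U M)) := by
  have h := (restrictAdjunction U.ι).left_triangle_components M
  have h2 : IsIso ((restrictFunctor U.ι).map (un U M) ≫
      (restrictAdjunction U.ι).counit.app ((restrictFunctor U.ι).obj M)) := by
    rw [h]
    infer_instance
  exact IsIso.of_isIso_comp_right _
    ((restrictAdjunction U.ι).counit.app ((restrictFunctor U.ι).obj M))

theorem isZero_restrict_push (hd : U ⊓ V = ⊥) (N : V.toScheme.Modules) :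
    IsZero (((pushforward V.ι).obj N).restrict U.ι) := by
  apply isZero_of_sections
  intro W
  apply subsingleton_bot N (V.ι ⁻¹ᵁ (U.ι ''ᵁ W))
  rw [eq_bot_iff]
  rintro x ⟨y, -, hy⟩
  have h1 : V.ι x ∈ V := x.2
  have h2 : V.ι x ∈ U := by
    have h4 : U.ι y ∈ U := y.2
    have hy' : U.ι y = V.ι x := hy
    rwa [hy'] at h4
  have h3 : V.ι x ∈ U ⊓ V := ⟨h2, h1⟩
  rw [hd] at h3
  exact h3

attribute [local instance] preservesBinaryBiproducts_of_preservesBinaryCoproducts in
instance additive_restrict {X Z : Scheme.{u}} (f : X ⟶ Z) [IsOpenImmersion f] :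
    (restrictFunctor f).Additive := Functor.additive_of_preservesBinaryBiproducts _

theorem isIso_lift (hUV : U ⊔ V = ⊤) (hd : U ⊓ V = ⊥) (M : Y.Modules) :
    IsIso (biprod.lift (un U M) (un V M)) := by
  have hd' : V ⊓ U = ⊥ := by rw [inf_comm]; exact hd
  apply PerfA.Restrict.isIso_of_restrict_opens
  intro x
  have hx : x ∈ U ⊔ V := by rw [hUV]; trivial
  rcases hx with hx | hx
  · refine ⟨U, hx, ?_⟩
    have : PreservesBinaryBiproducts (restrictFunctor U.ι) := preservesBinaryBiproducts_of_preservesBiproducts _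
    have h1 := biprod.map_lift_mapBiprod (restrictFunctor U.ι) _ _ (un U M) (un V M)
    have h2 := isIso_lift_left ((restrictFunctor U.ι).map (un U M)) ((restrictFunctor U.ι).map (un V M))
      (isZero_restrict_push U V hd _)
    rw [← h1] at h2
    exact IsIso.of_isIso_comp_right _ ((restrictFunctor U.ι).mapBiprod _ _).hom
  · refine ⟨V, hx, ?_⟩
    have : PreservesBinaryBiproducts (restrictFunctor V.ι) := preservesBinaryBiproducts_of_preservesBiproducts _
    have h1 := biprod.map_lift_mapBiprod (restrictFunctor V.ι) _ _ (un U M) (un V M)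
    have h2 := isIso_lift_right ((restrictFunctor V.ι).map (un U M)) ((restrictFunctor V.ι).map (un V M))
      (isZero_restrict_push V U hd' _)
    rw [← h1] at h2
    exact IsIso.of_isIso_comp_right _ ((restrictFunctor V.ι).mapBiprod _ _).hom

/-- `M ≅ (U.ι)_* M|_U ⊞ (V.ι)_* M|_V`. -/
noncomputable def splitIso (hUV : U ⊔ V = ⊤) (hd : U ⊓ V = ⊥) (M : Y.Modules) :
    M ≅ (pushforward U.ι).obj (M.restrict U.ι) ⊞ (pushforward V.ι).obj (M.restrict V.ι) :=
  have := isIso_lift U V hUV hd M
  asIso (biprod.lift (un U M) (un V M))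

theorem isClosedImmersion_ι (hUV : U ⊔ V = ⊤) (hd : U ⊓ V = ⊥) : IsClosedImmersion U.ι := by
  apply IsClosedImmersion.of_isPreimmersion U.ι
  rw [U.range_ι]
  have h : (U : Set Y) = (V : Set Y)ᶜ := by
    apply Set.Subset.antisymm
    · intro x hx hx'
      have h3 : x ∈ U ⊓ V := ⟨hx, hx'⟩
      rw [hd] at h3
      exact h3
    · intro x hx
      have h3 : x ∈ U ⊔ V := by rw [hUV]; trivial
      exact h3.resolve_right hx
  rw [h]
  exact V.isOpen.isClosed_compl

theorem isCoh_push_restrict (hUV : U ⊔ V = ⊤) (hd : U ⊓ V = ⊥) {M : Y.Modules}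
    (hM : Coh.IsCoh M) : Coh.IsCoh ((pushforward U.ι).obj (M.restrict U.ι)) := by
  have hd' : V ⊓ U = ⊥ := by rw [inf_comm]; exact hd
  apply PerfA.CohSerre.isCoh_of_restrict
  intro x
  have hx : x ∈ U ⊔ V := by rw [hUV]; trivial
  rcases hx with hx | hx
  · refine ⟨U, hx, ?_⟩
    exact PerfA.CohSerre.isCoh_of_iso (asIso ((restrictFunctor U.ι).map (un U M)))
      (PerfA.CohSerre.isCoh_restrict U.ι hM)
  · exact ⟨V, hx, PerfA.CohSerre.isCoh_of_isZero (isZero_restrict_push V U hd' _)⟩

theorem euler_add (k : Type u) [Field k] [Y.Over (Spec (CommRingCat.of k))]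
    [IsProper (Y ↘ Spec (CommRingCat.of k))]
    [U.toScheme.Over (Spec (CommRingCat.of k))] [V.toScheme.Over (Spec (CommRingCat.of k))]
    (hU : U.ι ≫ (Y ↘ Spec (CommRingCat.of k)) = U.toScheme ↘ Spec (CommRingCat.of k))
    (hV : V.ι ≫ (Y ↘ Spec (CommRingCat.of k)) = V.toScheme ↘ Spec (CommRingCat.of k))
    (hUV : U ⊔ V = ⊤) (hd : U ⊓ V = ⊥) {M : Y.Modules} (hM : Coh.IsCoh M) :
    Curv2.euler k Y M =
      Curv2.euler k U.toScheme (M.restrict U.ι) + Curv2.euler k V.toScheme (M.restrict V.ι) := by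
  have hUV' : V ⊔ U = ⊤ := by rw [sup_comm]; exact hUV
  have hd' : V ⊓ U = ⊥ := by rw [inf_comm]; exact hd
  have c1 := isClosedImmersion_ι U V hUV hd
  have c2 := isClosedImmersion_ι V U hUV' hd'
  have q1 := isCoh_push_restrict U V hUV hd hM
  have q2 := isCoh_push_restrict V U hUV' hd' hM
  have e := splitIso U V hUV hd M
  let S : ShortComplex Y.Modules := ShortComplex.mk
    (biprod.inl : (pushforward U.ι).obj (M.restrict U.ι) ⟶
      (pushforward U.ι).obj (M.restrict U.ι) ⊞ (pushforward V.ι).obj (M.restrict V.ι))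
    biprod.snd (by simp)
  have hS : S.ShortExact := (ShortComplex.Splitting.ofHasBinaryBiproduct _ _).shortExact
  have h := S1524.result k Y S hS q1 (PerfA.CohSerre.isCoh_of_iso e hM) q2
  rw [CurvesC.DegIso.euler_congr k e, ← CurvesC.DegIso.euler_push k U.ι hU,
    ← CurvesC.DegIso.euler_push k V.ι hV]
  exact h

end Groth.Agent.Vancyc.H241.CohSplit
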