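import Groth.Agent.Sga4B.CurveDecomp
import Groth.Agent.Sga4B.CurveEtale
import Groth.Prelude.Def_Milnor

/-!
# Étale cohomology of a disjoint union of two open subschemes

For opens `U`, `V` of `Y` with `U ⊔ V = ⊤`, `U ⊓ V = ⊥`:

* `nonempty_H`: `H^n(Y, M) ≃+ H^n(U, M) × H^n(V, M)` for a constant coefficient group `M`;
* `card_H`, `finite_H`;
* `hdim_add`, `euler_add`: `VanCyc.hdim`, `VanCyc.euler` are additive when the groups are finite;
* `hdim_of_isEmpty`, `euler_of_isEmpty`.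
-/

set_option autoImplicit false
set_option linter.style.haveILetI false
set_option linter.unusedSectionVars false

universe u

open CategoryTheory CategoryTheory.Limits AlgebraicGeometry Opposite Abelian TopologicalSpace
open scoped Groth.Agent.Etcore.EtInst
open Groth.Agent.Etcore.EtInst

namespace Groth.Agent.Vancyc.H241.EtSplit

open Groth.Agent.Sga4B.DualShape Groth.Agent.Sga4B.CurveDecomp Groth.Agent.Sga4B.CurveEtale
  Groth.Agent.Etbase.EtGlue

variable {Y : Scheme.{u}} (U V : Y.Opens) (hUV : U ⊔ V = ⊤) (hd : U ⊓ V = ⊥)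

section Card

variable (M : Type) [AddCommGroup M]

include hUV hd in
theorem nonempty_H (n : ℕ) : Nonempty (EtCoh.H Y (EtCoh.const Y M) n ≃+
    EtCoh.H U.toScheme (EtCoh.const U.toScheme M) n ×
      EtCoh.H V.toScheme (EtCoh.const V.toScheme M) n) := by
  have hc : Set.range (opnι (EtCoh.top Y) U).left ∪ Set.range (opnι (EtCoh.top Y) V).left =
      Set.univ := by
    rw [range_opnι, range_opnι]
    have := congrArg (fun W : Y.Opens => (W : Set Y)) hUV
    exact this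
  have hd' : Disjoint (Set.range (opnι (EtCoh.top Y) U).left)
      (Set.range (opnι (EtCoh.top Y) V).left) := by
    rw [range_opnι, range_opnι, Set.disjoint_iff_inter_eq_empty]
    have := congrArg (fun W : Y.Opens => (W : Set Y)) hd
    exact this
  obtain ⟨t⟩ := nonempty_split (opnι (EtCoh.top Y) U) (opnι (EtCoh.top Y) V) hc hd' ℤ
  have h0 : EtShriek.JCont (EtpbcA.OverSite.str (EtCoh.top Y)) := Sga4h.EtaleRes.jCont _
  have h1 : EtShriek.JCont (EtpbcA.OverSite.str (opn (EtCoh.top Y) U)) := Sga4h.EtaleRes.jCont _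
  have h2 : EtShriek.JCont (EtpbcA.OverSite.str (opn (EtCoh.top Y) V)) := Sga4h.EtaleRes.jCont _
  exact ⟨((extZSConst (EtCoh.top Y) M n).symm.trans (t.extLeft (EtCoh.const Y M) n)).trans
    (AddEquiv.prodCongr (extZSConst (opn (EtCoh.top Y) U) M n)
      (extZSConst (opn (EtCoh.top Y) V) M n))⟩

include hUV hd in
theorem card_H (n : ℕ) : Nat.card (EtCoh.H Y (EtCoh.const Y M) n) =
    Nat.card (EtCoh.H U.toScheme (EtCoh.const U.toScheme M) n) *
      Nat.card (EtCoh.H V.toScheme (EtCoh.const V.toScheme M) n) := by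
  obtain ⟨e⟩ := nonempty_H U V hUV hd M n
  rw [Nat.card_congr e.toEquiv, Nat.card_prod]

include hUV hd in
theorem finite_left (n : ℕ) (h : Finite (EtCoh.H Y (EtCoh.const Y M) n)) :
    Finite (EtCoh.H U.toScheme (EtCoh.const U.toScheme M) n) := by
  obtain ⟨e⟩ := nonempty_H U V hUV hd M n
  have : Finite (EtCoh.H U.toScheme (EtCoh.const U.toScheme M) n ×
      EtCoh.H V.toScheme (EtCoh.const V.toScheme M) n) := Finite.of_equiv _ e.toEquiv
  exact Finite.prod_left (EtCoh.H V.toScheme (EtCoh.const V.toScheme M) n)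

include hUV hd in
theorem finite_right (n : ℕ) (h : Finite (EtCoh.H Y (EtCoh.const Y M) n)) :
    Finite (EtCoh.H V.toScheme (EtCoh.const V.toScheme M) n) :=
  finite_left V U (by rw [sup_comm]; exact hUV) (by rw [inf_comm]; exact hd) M n h

end Card

section Pow

theorem nsmul_id_const (ℓ : ℕ) (X : Scheme.{u}) : ℓ • 𝟙 (EtCoh.const X (ZMod ℓ)) = 0 := by
  have h0 : (constantSheaf X.smallEtaleTopology AddCommGrpCat.{u + 1}).Additive := by
    unfold constantSheaf
    infer_instance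
  have h1 : ℓ • 𝟙 (AddCommGrpCat.of (ULift.{u + 1} (ZMod ℓ))) = 0 := by
    ext x
    simp
  calc ℓ • 𝟙 (EtCoh.const X (ZMod ℓ))
      = (constantSheaf X.smallEtaleTopology AddCommGrpCat.{u + 1}).map
          (ℓ • 𝟙 (AddCommGrpCat.of (ULift.{u + 1} (ZMod ℓ)))) := by
        rw [Functor.map_nsmul, CategoryTheory.Functor.map_id]
    _ = 0 := by rw [h1, Functor.map_zero]

theorem nsmul_H (ℓ : ℕ) (X : Scheme.{u}) (n : ℕ) (x : EtCoh.H X (EtCoh.const X (ZMod ℓ)) n) :
    ℓ • x = 0 := by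
  let F : EtCoh.Ab X := EtCoh.const X (ZMod ℓ)
  let φ : (F ⟶ F) →+ HH X F n := AddMonoidHom.mk' (fun f => Ext.comp x (Ext.mk₀ f) (add_zero n))
    (fun f g => by rw [Ext.mk₀_add, Ext.comp_add])
  have h1 : φ (𝟙 F) = x := Ext.comp_mk₀_id x
  have h2 : ℓ • φ (𝟙 F) = 0 := by
    rw [← map_nsmul, nsmul_id_const, map_zero]
  rw [h1] at h2
  exact h2

theorem exists_pow (ℓ : ℕ) (hℓ : ℓ.Prime) (A : Type*) [AddCommGroup A] (hA : ∀ a : A, ℓ • a = 0)
    [Finite A] : ∃ r : ℕ, Nat.card A = ℓ ^ r := by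
  have : Fact ℓ.Prime := ⟨hℓ⟩
  letI : Module (ZMod ℓ) A := AddCommGroup.zmodModule hA
  haveI : Module.Finite (ZMod ℓ) A := Module.Finite.of_finite
  refine ⟨Module.finrank (ZMod ℓ) A, ?_⟩
  have := Fintype.ofFinite A
  rw [Nat.card_eq_fintype_card, Module.card_eq_pow_finrank (K := ZMod ℓ) (V := A), ZMod.card]

end Pow

include hUV hd in
theorem hdim_add (ℓ : ℕ) (hℓ : ℓ.Prime) (n : ℕ)
    (h : Finite (EtCoh.H Y (EtCoh.const Y (ZMod ℓ)) n)) :
    VanCyc.hdim ℓ Y n = VanCyc.hdim ℓ U.toScheme n + VanCyc.hdim ℓ V.toScheme n := by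
  have h1 := finite_left U V hUV hd (ZMod ℓ) n h
  have h2 := finite_right U V hUV hd (ZMod ℓ) n h
  obtain ⟨a, ha⟩ := exists_pow ℓ hℓ _ (nsmul_H ℓ U.toScheme n)
  obtain ⟨b, hb⟩ := exists_pow ℓ hℓ _ (nsmul_H ℓ V.toScheme n)
  have hl : 1 < ℓ := hℓ.one_lt
  rw [VanCyc.hdim, VanCyc.hdim, VanCyc.hdim, card_H U V hUV hd (ZMod ℓ) n, ha, hb, ← pow_add,
    Nat.log_pow hl, Nat.log_pow hl, Nat.log_pow hl]

include hUV hd in
theorem euler_add (ℓ : ℕ) (hℓ : ℓ.Prime) (N : ℕ)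
    (h : ∀ n, Finite (EtCoh.H Y (EtCoh.const Y (ZMod ℓ)) n)) :
    VanCyc.euler ℓ Y N = VanCyc.euler ℓ U.toScheme N + VanCyc.euler ℓ V.toScheme N := by
  rw [VanCyc.euler, VanCyc.euler, VanCyc.euler, ← Finset.sum_add_distrib]
  refine Finset.sum_congr rfl fun i _ => ?_
  rw [hdim_add U V hUV hd ℓ hℓ i (h i)]
  push_cast
  ring

theorem subsingleton_H_of_isEmpty {Y : Scheme.{u}} [IsEmpty Y] (M : Type) [AddCommGroup M] (n : ℕ) :
    Subsingleton (EtCoh.H Y (EtCoh.const Y M) n) := by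
  have : IsEmpty (EtCoh.top Y).left := ‹IsEmpty Y›
  have h0 : EtShriek.JCont (EtpbcA.OverSite.str (EtCoh.top Y)) := Sga4h.EtaleRes.jCont _
  have h1 : Subsingleton (Ext (ZS (EtCoh.top Y)) (EtCoh.const Y M) n) :=
    subsingleton_of_isZero_left (isZero_of_isEmpty (EtCoh.top Y) ℤ) n
  exact (extZSConst (EtCoh.top Y) M n).symm.toEquiv.subsingleton

theorem euler_of_isEmpty {Y : Scheme.{u}} [IsEmpty Y] (ℓ : ℕ) (N : ℕ) : VanCyc.euler ℓ Y N = 0 := by
  rw [VanCyc.euler]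
  refine Finset.sum_eq_zero fun i _ => ?_
  have := subsingleton_H_of_isEmpty (Y := Y) (ZMod ℓ) i
  rw [VanCyc.hdim, Nat.card_unique, Nat.log_one_right]
  simp

end Groth.Agent.Vancyc.H241.EtSplit
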