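import Groth.Agent.Vancyc.H120.Rees
import Mathlib.RingTheory.Ideal.Cotangent
import Mathlib.LinearAlgebra.SymmetricAlgebra.Basic
import Mathlib.RingTheory.MvPolynomial.Homogeneous

/-!
# The associated graded ring `rees I / (t)`

`gr I = rees I / (t)`, its structure map `base : S ⧸ I →+* gr I`, the map `kap : I/I² → gr I` sending the
class of `a` to the class of `a T⁻¹`, the augmentation `aug : gr I →+* S ⧸ I`, and functoriality.
-/

set_option autoImplicit false
universe u v w

open LaurentPolynomial Groth.Agent.Vancyc.H120 Groth.Agent.Vancyc.H120.Rees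

namespace Groth.Agent.Vancyc.H241.Gr

noncomputable section

variable {S : Type u} [CommRing S] (I : Ideal S)

/-- The coefficients of `T^n * p`. -/
theorem coeff_T_mul (n m : ℤ) (p : S[T;T⁻¹]) : (T n * p).coeff m = p.coeff (m - n) := by
  have h : p = ∑ k ∈ p.coeff.support, C (p.coeff k) * T k := eq_sum p
  rw [h, Finset.mul_sum, AddMonoidAlgebra.coeff_sum, Finsupp.finsetSum_apply,
    AddMonoidAlgebra.coeff_sum, Finsupp.finsetSum_apply]
  refine Finset.sum_congr rfl fun k _ => ?_
  rw [mul_left_comm, ← T_add, coeff_C_mul_T, coeff_C_mul_T]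
  exact if_congr (by constructor <;> intro h <;> omega) rfl rfl

/-- Membership in the ideal `(t)`. -/
theorem mem_span_t {p : rees I} :
    p ∈ Ideal.span {t I} ↔ ∀ n : ℤ, (p : S[T;T⁻¹]).coeff n ∈ I ^ ex (n - 1) := by
  rw [Ideal.mem_span_singleton']
  constructor
  · rintro ⟨q, rfl⟩ n
    have h : ((q * t I : rees I) : S[T;T⁻¹]) = T 1 * (q : S[T;T⁻¹]) := by
      rw [mul_comm]; rfl
    rw [h, coeff_T_mul]
    exact q.2 (n - 1)
  · intro h
    refine ⟨⟨T (-1) * (p : S[T;T⁻¹]), ?_⟩, ?_⟩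
    · rw [mem_rees]
      intro n
      rw [coeff_T_mul]
      have := h (n - -1)
      rwa [show n - -1 - 1 = n by ring] at this
    · apply Subtype.ext
      change (T (-1) : S[T;T⁻¹]) * (p : S[T;T⁻¹]) * (T 1 : S[T;T⁻¹]) = (p : S[T;T⁻¹])
      calc (T (-1) : S[T;T⁻¹]) * (p : S[T;T⁻¹]) * (T 1 : S[T;T⁻¹])
          = (p : S[T;T⁻¹]) * ((T (-1) : S[T;T⁻¹]) * (T 1 : S[T;T⁻¹])) := by ring
        _ = (p : S[T;T⁻¹]) := by rw [← T_add]; simp

/-- `gr I = rees I / (t)`. -/
abbrev gr : Type u := rees I ⧸ Ideal.span {t I}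

/-- The quotient map. -/
abbrev mk : rees I →+* gr I := Ideal.Quotient.mk (Ideal.span {t I})

theorem mk_t : mk I (t I) = 0 :=
  Ideal.Quotient.eq_zero_iff_mem.2 (Ideal.subset_span (Set.mem_singleton _))

theorem mk_algebraMap_eq_zero {a : S} (ha : a ∈ I) : mk I (algebraMap S (rees I) a) = 0 := by
  rw [← t_mul_u I a ha, map_mul, mk_t, zero_mul]

/-- The structure map `S ⧸ I → gr I`. -/
def base : S ⧸ I →+* gr I :=
  Ideal.Quotient.lift I ((mk I).comp (algebraMap S (rees I))) fun _ ha => mk_algebraMap_eq_zero I ha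

@[simp]
theorem base_mk (a : S) : base I (Ideal.Quotient.mk I a) = mk I (algebraMap S (rees I) a) := rfl

theorem u_add (a b : S) (ha : a ∈ I) (hb : b ∈ I) :
    u I (a + b) (add_mem ha hb) = u I a ha + u I b hb := by
  apply Subtype.ext
  change (C (a + b) * T (-1) : S[T;T⁻¹]) = C a * T (-1) + C b * T (-1)
  rw [map_add, add_mul]

theorem u_mul (a b : S) (hb : b ∈ I) :
    u I (a * b) (I.mul_mem_left a hb) = algebraMap S (rees I) a * u I b hb := by
  apply Subtype.ext
  change (C (a * b) * T (-1) : S[T;T⁻¹]) = C a * (C b * T (-1))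
  rw [map_mul, mul_assoc]

/-- The `S`-linear map `a ↦ a T⁻¹`. -/
def uLin : I →ₗ[S] gr I where
  toFun a := mk I (u I a a.2)
  map_add' a b := by
    rw [← map_add, ← u_add]
    rfl
  map_smul' r a := by
    have h : u I (r • a : I) (r • a).2 = algebraMap S (rees I) r * u I a a.2 := u_mul I r a a.2
    rw [h, ← Algebra.smul_def]
    rfl

theorem uLin_mul (x y : I) : uLin I (x * y) = 0 := by
  change mk I (u I ((x : S) * y) (I.mul_mem_left x y.2)) = 0
  rw [u_mul I x y y.2, map_mul, mk_algebraMap_eq_zero I x.2, zero_mul]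

/-- The canonical map `I/I² → gr I` onto the degree one part, `S`-linear. -/
def kap : I.Cotangent →ₗ[S] gr I := Ideal.Cotangent.lift (uLin I) (uLin_mul I)

@[simp]
theorem kap_toCotangent (a : I) : kap I (I.toCotangent a) = mk I (u I a a.2) := rfl

theorem kap_smul (b : S ⧸ I) (m : I.Cotangent) : kap I (b • m) = base I b * kap I m := by
  obtain ⟨b, rfl⟩ := Ideal.Quotient.mk_surjective b
  obtain ⟨m, rfl⟩ := I.toCotangent_surjective m
  have h : (Ideal.Quotient.mk I b) • I.toCotangent m = b • I.toCotangent m := rfl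
  rw [h, map_smul, base_mk, kap_toCotangent, ← map_mul, ← Algebra.smul_def]
  rfl

/-! ## Generation -/

theorem mk_C_mul_T_of_pos {n : ℤ} (hn : 0 < n) (a : S) (h : (C a * T n : S[T;T⁻¹]) ∈ rees I) :
    mk I ⟨C a * T n, h⟩ = 0 := by
  rw [Ideal.Quotient.eq_zero_iff_mem, mem_span_t]
  intro m
  change (C a * T n : S[T;T⁻¹]).coeff m ∈ I ^ ex (m - 1)
  rw [coeff_C_mul_T]
  split_ifs with h
  · subst h
    have : ex (n - 1) = 0 := by unfold ex; omega
    rw [this, pow_zero, Ideal.one_eq_top]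
    exact Submodule.mem_top
  · exact zero_mem _

theorem hom_mul (n : ℕ) (a b : S) (ha : a ∈ I ^ n) (hb : b ∈ I) (hab : a * b ∈ I ^ (n + 1)) :
    hom I (n + 1) (a * b) hab = hom I n a ha * u I b hb := by
  apply Subtype.ext
  change (C (a * b) * T (-((n + 1 : ℕ) : ℤ)) : S[T;T⁻¹]) = C a * T (-(n : ℤ)) * (C b * T (-1))
  rw [map_mul, mul_mul_mul_comm, ← T_add]
  congr 2
  push_cast
  ring

theorem hom_add (n : ℕ) (a b : S) (ha : a ∈ I ^ n) (hb : b ∈ I ^ n) :
    hom I n (a + b) (add_mem ha hb) = hom I n a ha + hom I n b hb := by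
  apply Subtype.ext
  change (C (a + b) * T (-(n : ℤ)) : S[T;T⁻¹]) = C a * T (-(n : ℤ)) + C b * T (-(n : ℤ))
  rw [map_add, add_mul]

/-- A subring of `gr I` containing the image of `S` and the `a T⁻¹` is everything. -/
theorem eq_top_of_subring (A : Subring (gr I)) (hb : ∀ a : S, mk I (algebraMap S (rees I) a) ∈ A)
    (hu : ∀ a ha, mk I (u I a ha) ∈ A) : A = ⊤ := by
  have key : ∀ (n : ℕ) (a : S) (ha : a ∈ I ^ n), mk I (hom I n a ha) ∈ A := by
    intro n
    induction n with
    | zero =>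
      intro a ha
      have h : hom I 0 a ha = algebraMap S (rees I) a := by
        apply Subtype.ext
        change (C a * T (-((0 : ℕ) : ℤ)) : S[T;T⁻¹]) = C a
        simp
      rw [h]
      exact hb a
    | succ n ih =>
      intro a ha
      have ha' : a ∈ I ^ n * I := by rwa [pow_succ] at ha
      induction ha' using Submodule.mul_induction_on' with
      | mem_mul_mem m hm k hk =>
        rw [hom_mul I n m k hm hk ha, map_mul]
        exact A.mul_mem (ih m hm) (hu k hk)
      | add x hx y hy hx' hy' =>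
        have hx2 : x ∈ I ^ (n + 1) := by rwa [pow_succ]
        have hy2 : y ∈ I ^ (n + 1) := by rwa [pow_succ]
        rw [hom_add I (n + 1) x y hx2 hy2, map_add]
        exact A.add_mem (hx' hx2) (hy' hy2)
  rw [eq_top_iff]
  rintro z -
  obtain ⟨p, rfl⟩ := Ideal.Quotient.mk_surjective z
  have hp : p = ∑ n ∈ (p : S[T;T⁻¹]).coeff.support,
      (⟨C ((p : S[T;T⁻¹]).coeff n) * T n, (C_mul_T_mem I).2 (p.2 n)⟩ : rees I) := by
    apply Subtype.ext
    rw [AddSubmonoidClass.coe_finsetSum]
    exact eq_sum (p : S[T;T⁻¹])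
  rw [hp, map_sum]
  refine A.sum_mem fun n _ => ?_
  by_cases hn : 0 < n
  · rw [mk_C_mul_T_of_pos I hn]
    exact A.zero_mem
  · obtain ⟨k, hk⟩ : ∃ k : ℕ, n = -(k : ℤ) := ⟨(-n).toNat, by omega⟩
    subst hk
    have hmem : (p : S[T;T⁻¹]).coeff (-(k : ℤ)) ∈ I ^ k := by simpa using p.2 (-(k : ℤ))
    exact key k _ hmem

/-! ## The augmentation -/

/-- The ring homomorphism "coefficient of `T^0` modulo `I`". -/
def augRees : rees I →+* S ⧸ I where
  toFun p := Ideal.Quotient.mk I ((p : S[T;T⁻¹]).coeff 0)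
  map_zero' := by
    change Ideal.Quotient.mk I ((0 : S[T;T⁻¹]).coeff 0) = 0
    simp
  map_one' := by
    change Ideal.Quotient.mk I ((1 : S[T;T⁻¹]).coeff 0) = 1
    have : (1 : S[T;T⁻¹]).coeff 0 = 1 := by
      rw [← map_one (C (R := S)), C_apply, if_pos rfl]
    rw [this, map_one]
  map_add' p q := by
    change Ideal.Quotient.mk I (((p : S[T;T⁻¹]) + q).coeff 0) = _
    rw [AddMonoidAlgebra.coeff_add, Finsupp.add_apply, map_add]
  map_mul' p q := by
    change Ideal.Quotient.mk I (((p : S[T;T⁻¹]) * q).coeff 0) = _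
    conv_lhs => rw [eq_sum (p : S[T;T⁻¹]), Finset.sum_mul, AddMonoidAlgebra.coeff_sum,
      Finsupp.finsetSum_apply, map_sum]
    have h : ∀ n : ℤ, Ideal.Quotient.mk I ((C ((p : S[T;T⁻¹]).coeff n) * T n * (q : S[T;T⁻¹])).coeff 0) =
        if n = 0 then Ideal.Quotient.mk I ((p : S[T;T⁻¹]).coeff 0) *
          Ideal.Quotient.mk I ((q : S[T;T⁻¹]).coeff 0) else 0 := by
      intro n
      rw [mul_assoc, ← smul_eq_C_mul, AddMonoidAlgebra.coeff_smul_apply, coeff_T_mul, smul_eq_mul,
        map_mul]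
      split_ifs with hn
      · subst hn; simp
      · rcases lt_or_gt_of_ne hn with hn | hn
        · have h1 : (p : S[T;T⁻¹]).coeff n ∈ I := by
            have := p.2 n
            obtain ⟨k, hk⟩ : ∃ k : ℕ, ex n = k + 1 := ⟨ex n - 1, by unfold ex; omega⟩
            rw [hk] at this
            exact Ideal.pow_le_self (Nat.succ_ne_zero k) this
          rw [Ideal.Quotient.eq_zero_iff_mem.2 h1, zero_mul]
        · have h1 : (q : S[T;T⁻¹]).coeff (0 - n) ∈ I := by
            have := q.2 (0 - n)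
            obtain ⟨k, hk⟩ : ∃ k : ℕ, ex (0 - n) = k + 1 := ⟨ex (0 - n) - 1, by unfold ex; omega⟩
            rw [hk] at this
            exact Ideal.pow_le_self (Nat.succ_ne_zero k) this
          rw [Ideal.Quotient.eq_zero_iff_mem.2 h1, mul_zero]
    simp only [h]
    rw [Finset.sum_ite_eq']
    split_ifs with h0
    · rfl
    · rw [Finsupp.notMem_support_iff.1 h0, map_zero, zero_mul]

/-- The augmentation `gr I → S ⧸ I`. -/
def aug : gr I →+* S ⧸ I :=
  Ideal.Quotient.lift _ (augRees I) fun p hp => by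
    have h := (mem_span_t I).1 hp 0
    change Ideal.Quotient.mk I ((p : S[T;T⁻¹]).coeff 0) = 0
    rw [Ideal.Quotient.eq_zero_iff_mem]
    simpa using h

@[simp]
theorem aug_base (b : S ⧸ I) : aug I (base I b) = b := by
  obtain ⟨b, rfl⟩ := Ideal.Quotient.mk_surjective b
  change Ideal.Quotient.mk I ((C b : S[T;T⁻¹]).coeff 0) = _
  rw [C_apply, if_pos rfl]

@[simp]
theorem aug_kap (m : I.Cotangent) : aug I (kap I m) = 0 := by
  obtain ⟨m, rfl⟩ := I.toCotangent_surjective m
  change Ideal.Quotient.mk I ((C (m : S) * T (-1) : S[T;T⁻¹]).coeff 0) = _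
  rw [coeff_C_mul_T, if_neg (by decide), map_zero]

theorem base_injective : Function.Injective (base I) :=
  (show Function.LeftInverse (aug I) (base I) from aug_base I).injective

/-! ## Functoriality -/

section Map

variable {S' : Type v} [CommRing S'] (I' : Ideal S') (φ : S →+* S') (h : I.map φ ≤ I')

/-- Functoriality of `gr`. -/
def grMap : gr I →+* gr I' :=
  Ideal.quotientMap _ (Rees.map I I' φ h) (by
    rw [Ideal.span_le, Set.singleton_subset_iff]
    change Rees.map I I' φ h (t I) ∈ Ideal.span {t I'}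
    rw [map_t]
    exact Ideal.subset_span (Set.mem_singleton _))

@[simp]
theorem grMap_mk (p : rees I) : grMap I I' φ h (mk I p) = mk I' (Rees.map I I' φ h p) := rfl

theorem grMap_base (b : S) : grMap I I' φ h (base I (Ideal.Quotient.mk I b)) =
    base I' (Ideal.Quotient.mk I' (φ b)) := by
  rw [base_mk, grMap_mk, map_algebraMap, base_mk]

theorem grMap_kap (a : I) : grMap I I' φ h (kap I (I.toCotangent a)) =
    kap I' (I'.toCotangent ⟨φ a, h (Ideal.mem_map_of_mem φ a.2)⟩) := by
  rw [kap_toCotangent, grMap_mk, map_u, kap_toCotangent]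

end Map

end

end Groth.Agent.Vancyc.H241.Gr
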