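import Groth.Agent.Vancyc.H241.Clopen
import Groth.Agent.Vancyc.H241.EtSplit
import Groth.Agent.Vancyc.H241.CohOm
import Groth.Agent.Pi1.H382.Trait
import Groth.Agent.CurvesA.CSpecD1

/-!
# Reduction of `χ_ét(Y) = Σ (-1)^i χ(Y, Ω^i)` to connected `Y`

`of_connected`: if the equality holds for all integral `Y`, proper and smooth of relative dimension
`m` over the algebraically closed field `k`, of dimension `m`, then it holds for all `Y` proper and
smooth of relative dimension `m` (given the finiteness of the étale cohomology of proper schemes).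
-/

set_option autoImplicit false
set_option linter.style.haveILetI false
set_option linter.unusedSectionVars false

universe u

open CategoryTheory CategoryTheory.Limits AlgebraicGeometry Opposite TopologicalSpace

namespace Groth.Agent.Vancyc.H241.OfConnFin

open Groth.Agent.Vancyc.H326 Groth.Agent.Vancyc.H241.CohOm

/-- A connected scheme smooth over a field is integral. -/
theorem isIntegral {k : Type u} [Field k] {Y : Scheme.{u}} (pY : Y ⟶ Spec (CommRingCat.of k))
    [Smooth pY] [ConnectedSpace Y] : IsIntegral Y :=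
  Pi1.H382.Trait.isIntegral_of_smooth pY

/-- A nonempty scheme smooth of relative dimension `m` over a field has dimension `m`. -/
theorem topologicalKrullDim_eq {k : Type u} [Field k] (m : ℕ) {Y : Scheme.{u}}
    (pY : Y ⟶ Spec (CommRingCat.of k)) [SmoothOfRelativeDimension m pY] [Nonempty Y] :
    topologicalKrullDim Y = m :=
  CurvesA.CSpecD1.topologicalKrullDim_eq_of_smoothOfRelativeDimension m pY

theorem noetherianSpace {k : Type u} [Field k] {Y : Scheme.{u}} (pY : Y ⟶ Spec (CommRingCat.of k))
    [IsProper pY] : NoetherianSpace Y := by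
  have : IsLocallyNoetherian Y := LocallyOfFiniteType.isLocallyNoetherian pY
  have : CompactSpace Y := QuasiCompact.compactSpace_of_compactSpace pY
  have : IsNoetherian Y := {}
  infer_instance

theorem smooth_comp {k : Type u} [Field k] (m : ℕ) {Y : Scheme.{u}}
    (pY : Y ⟶ Spec (CommRingCat.of k)) [SmoothOfRelativeDimension m pY] (U : Y.Opens) :
    SmoothOfRelativeDimension m (U.ι ≫ pY) := by
  have h : SmoothOfRelativeDimension (0 + m) (U.ι ≫ pY) := inferInstance
  rwa [zero_add] at h

theorem of_connected (k : Type u) [Field k] (ℓ : ℕ) (hℓ : ℓ.Prime) (m : ℕ)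
    (hfin : ∀ (Y : Scheme.{u}) (pY : Y ⟶ Spec (CommRingCat.of k)) [IsProper pY] (n : ℕ),
      Finite (EtCoh.H Y (EtCoh.const Y (ZMod ℓ)) n))
    (h : ∀ (Y : Scheme.{u}) (pY : Y ⟶ Spec (CommRingCat.of k)) [IsProper pY]
      [SmoothOfRelativeDimension m pY] [IsIntegral Y], topologicalKrullDim Y = m →
      VanCyc.euler ℓ Y (2 * m) = cOm k m pY)
    (Y : Scheme.{u}) (pY : Y ⟶ Spec (CommRingCat.of k)) [IsProper pY]
    [SmoothOfRelativeDimension m pY] : VanCyc.euler ℓ Y (2 * m) = cOm k m pY := by
  have := noetherianSpace pY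
  refine Clopen.induction (B := Spec (CommRingCat.of k)) (fun Y pY => ∀ [IsProper pY]
    [SmoothOfRelativeDimension m pY], VanCyc.euler ℓ Y (2 * m) = cOm k m pY) ?_ ?_ ?_ Y pY
  · intro Y pY hY _ _
    rw [EtSplit.euler_of_isEmpty ℓ (2 * m), cOm_of_isEmpty]
  · intro Y pY hY _ _
    have hs : Smooth pY := SmoothOfRelativeDimension.smooth m pY
    have := isIntegral pY
    exact h Y pY (topologicalKrullDim_eq m pY)
  · intro Y pY U V hUV hd h1 h2 _ _
    have hs : Smooth pY := SmoothOfRelativeDimension.smooth m pY
    have c1 := Clopen.isClosedImmersion_ι U V hUV hd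
    have c2 := Clopen.isClosedImmersion_ι V U (by rw [sup_comm]; exact hUV)
      (by rw [inf_comm]; exact hd)
    have s1 : SmoothOfRelativeDimension m (U.ι ≫ pY) := smooth_comp m pY U
    have s2 : SmoothOfRelativeDimension m (V.ι ≫ pY) := smooth_comp m pY V
    rw [EtSplit.euler_add U V hUV hd ℓ hℓ (2 * m) (hfin Y pY), cOm_add U V k m pY hUV hd, h1, h2]

end Groth.Agent.Vancyc.H241.OfConnFin
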